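import Groth.Agent.WeilFin27.Sheaf
import Groth.Agent.VBHom27.Curve

/-!
# Bundles with finitely many indecomposables in their tensor powers have slope zero and are semistable
-/

set_option autoImplicit false
universe u

open CategoryTheory CategoryTheory.Limits AlgebraicGeometry
open Groth.Agent.VBLib

noncomputable section

namespace Groth.Agent.WeilFin27

variable {X : Scheme.{u}} [IsIntegral X] {k : Type u} [Field k] [X.Over (Spec (CommRingCat.of k))]
  (hX : GoodCurve k X)

theorem mono_tens_left [IsLocallyNoetherian X] {V A B : X.Modules} (hV : FlatMod.IsFinLocFree V)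
    (f : A ⟶ B) [Mono f] : Mono (((DCoh.tensorBi (X := X)).obj V).map f) := by
  let S := ShortComplex.mk f (cokernel.π f) (cokernel.condition f)
  have hS : S.ShortExact := { exact := S.exact_of_g_is_cokernel (cokernelIsCokernel f) }
  exact (CohDev.tens_shortExact (ofRank_rk hV) hS).mono_f

theorem mono_tens_right [IsLocallyNoetherian X] {V A B : X.Modules} (hV : FlatMod.IsFinLocFree V)
    (f : A ⟶ B) [Mono f] : Mono (((DCoh.tensorBi (X := X)).flip.obj V).map f) := by
  let e : (DCoh.tensorBi (X := X)).flip.obj V ≅ (DCoh.tensorBi (X := X)).obj V :=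
    (KFlat.tensorBiFlipIso (O := X.sheaf)).app V
  haveI := mono_tens_left hV f
  rw [← NatIso.naturality_2 e f]
  infer_instance

/-- A monomorphism of vector bundles gives monomorphisms of tensor powers. -/
theorem exists_mono_pw [IsLocallyNoetherian X] {F E : X.Modules} (hF : FlatMod.IsFinLocFree F)
    (hE : FlatMod.IsFinLocFree E) (i : F ⟶ E) [Mono i] :
    ∀ n, ∃ a : pw F n ⟶ pw E n, Mono a
  | 0 => ⟨𝟙 (Coh.structureModule X), (inferInstance : Mono (𝟙 (Coh.structureModule X)))⟩
  | n + 1 => by
    obtain ⟨a, ha⟩ := exists_mono_pw hF hE i n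
    haveI := mono_tens_right hF a
    haveI := mono_tens_left (isFinLocFree_pw hE n) i
    exact ⟨((DCoh.tensorBi (X := X)).flip.obj F).map a ≫ ((DCoh.tensorBi (X := X)).obj (pw E n)).map i,
      @mono_comp _ _ _ _ _ _ (mono_tens_right hF a) _ (mono_tens_left (isFinLocFree_pw hE n) i)⟩

include hX

/-- Rank and degree of a tensor power. -/
theorem rk_dg_pw {E : X.Modules} (hE : FlatMod.IsFinLocFree E) : ∀ n : ℕ,
    rk (pw E n) = rk E ^ n ∧ dg k (pw E n) * (rk E : ℤ) = (n : ℤ) * (rk E : ℤ) ^ n * dg k E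
  | 0 => by
    have h1 : FlatMod.IsFinLocFreeOfRank 1 (Coh.structureModule X) :=
      ProjTwist.isFinLocFreeOfRank_one (LFFrame.isInvertible_structureModule X)
    have hd : dg k (Coh.structureModule X) = 0 := by
      haveI := hX.proper
      show Curv2.deg k X (Coh.structureModule X) (rk (Coh.structureModule X)) = 0
      rw [rk_eq h1]
      simp [Curv2.deg]
    refine ⟨by rw [pow_zero]; exact rk_eq h1, ?_⟩
    show dg k (Coh.structureModule X) * _ = _
    rw [hd]; simp
  | n + 1 => by
    obtain ⟨h1, h2⟩ := rk_dg_pw hE n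
    have hr : rk (pw E (n + 1)) = rk (pw E n) * rk E := (VBHom27.rk_tens (isFinLocFree_pw hE n) hE).2
    have hd : dg k (pw E (n + 1)) = rk (pw E n) * dg k E + rk E * dg k (pw E n) :=
      VBHom27.dg_tens hX (isFinLocFree_pw hE n) hE
    refine ⟨by rw [hr, h1, pow_succ], ?_⟩
    rw [hd, h1]
    push_cast
    linear_combination (rk E : ℤ) * h2

/-- A bound on the slope of subbundles of objects admitting a jointly monic family of maps to the
members of a finite family. -/
theorem exists_bound {ι : Type} [Fintype ι] {Bs : ι → X.Modules} (hB : ∀ i, FlatMod.IsFinLocFree (Bs i)) :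
    ∃ M : ℤ, ∀ (n : ℕ) (G : X.Modules) (c : Fin n → ι) (φ : ∀ j, G ⟶ Bs (c j)),
      FlatMod.IsFinLocFree G → (∀ (W : X.Modules) (g : W ⟶ G), (∀ j, g ≫ φ j = 0) → g = 0) →
        dg k G ≤ M * rk G := by
  classical
  haveI := hX.isLocallyNoetherian
  choose N hN using fun i => hX.dg_bddAbove (isCoh_of_isFinLocFree (hB i))
  let M : ℤ := ∑ i, max (N i) 0
  have hM0 : 0 ≤ M := Finset.sum_nonneg fun i _ => le_max_right _ _
  have hle : ∀ i, N i ≤ M := fun i => (le_max_left _ _).trans
    (Finset.single_le_sum (f := fun i => max (N i) 0) (fun i _ => le_max_right _ _) (Finset.mem_univ i))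
  refine ⟨M, fun n => ?_⟩
  induction n with
  | zero =>
    intro G c φ hG hmon
    have hz : IsZero G := (IsZero.iff_id_eq_zero G).mpr (hmon G (𝟙 G) fun j => j.elim0)
    rw [hX.dg_eq_zero_of_isZero (isCoh_of_isFinLocFree hG) hz]
    positivity
  | succ n ih =>
    intro G c φ hG hmon
    let f := φ (Fin.last n)
    have hBc := isCoh_of_isFinLocFree (hB (c (Fin.last n)))
    obtain ⟨h1, h2⟩ := hX.dg_kernel_image f (isCoh_of_isFinLocFree hG) hBc
    have hK := isFinLocFree_kernel hX.pid f hG hBc
    have hI := isFinLocFree_image hX.pid f (isCoh_of_isFinLocFree hG) (hB (c (Fin.last n)))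
    have hdK : dg k (kernel f) ≤ M * rk (kernel f) :=
      ih (kernel f) (fun j => c j.castSucc) (fun j => kernel.ι f ≫ φ j.castSucc) hK fun W g hg => by
        rw [← cancel_mono (kernel.ι f), zero_comp]
        refine hmon W _ fun j => ?_
        induction j using Fin.lastCases with
        | last => rw [Category.assoc, kernel.condition, comp_zero]
        | cast j => rw [Category.assoc]; exact hg j
    have hdI : dg k (Abelian.image f) ≤ M * rk (Abelian.image f) := by
      rcases Nat.eq_zero_or_pos (rk (Abelian.image f)) with h0 | hpos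
      · rw [hX.dg_eq_zero_of_isZero (isCoh_of_isFinLocFree hI) (isZero_of_rk_eq_zero hI h0), h0]
        simp
      · calc dg k (Abelian.image f) ≤ N (c (Fin.last n)) :=
              hN _ _ (Abelian.image.ι f) inferInstance (isCoh_of_isFinLocFree hI)
          _ ≤ M := hle _
          _ ≤ M * rk (Abelian.image f) := le_mul_of_one_le_right hM0 (by exact_mod_cast hpos)
    rw [h1, h2]
    push_cast
    linarith

/-- Subbundles have nonpositive degree. -/
theorem dg_le_zero {E : X.Modules} (hE : FlatMod.IsFinLocFree E) (h : PowGen E) {F : X.Modules}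
    (i : F ⟶ E) [Mono i] (hF : FlatMod.IsFinLocFree F) : dg k F ≤ 0 := by
  haveI := hX.isLocallyNoetherian
  obtain ⟨ι, _, Bs, hB, hg⟩ := h
  obtain ⟨M, hM⟩ := exists_bound hX hB
  by_contra! hpos
  rcases Nat.eq_zero_or_pos (rk F) with h0 | hr
  · rw [hX.dg_eq_zero_of_isZero (isCoh_of_isFinLocFree hF) (isZero_of_rk_eq_zero hF h0)] at hpos
    exact lt_irrefl _ hpos
  let n : ℕ := (M * (rk F : ℤ)).toNat + 1
  obtain ⟨a, ha⟩ := exists_mono_pw hF hE i n
  obtain ⟨m, c, f, g, hfg⟩ := hg n
  have key := hM m (pw F n) c (fun j => a ≫ f j) (isFinLocFree_pw hF n) fun W w hw => by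
    rw [← cancel_mono a, zero_comp, ← Category.comp_id (w ≫ a), ← hfg, Preadditive.comp_sum]
    refine Finset.sum_eq_zero fun j _ => ?_
    rw [← Category.assoc, Category.assoc w, hw j, zero_comp]
  obtain ⟨h1, h2⟩ := rk_dg_pw hX hF n
  rw [h1] at key
  push_cast at key
  have hrn : (0 : ℤ) < (rk F : ℤ) ^ n := by positivity
  have h3 : (n : ℤ) * dg k F ≤ M * rk F := by
    refine le_of_mul_le_mul_left ?_ hrn
    calc (rk F : ℤ) ^ n * ((n : ℤ) * dg k F) = dg k (pw F n) * rk F := by rw [h2]; ring
      _ ≤ M * (rk F : ℤ) ^ n * rk F := mul_le_mul_of_nonneg_right key (Int.natCast_nonneg _)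
      _ = (rk F : ℤ) ^ n * (M * rk F) := by ring
  have h4 : M * (rk F : ℤ) < n := by omega
  nlinarith

/-- The degree is zero. -/
theorem dg_eq_zero {E : X.Modules} (hE : FlatMod.IsFinLocFree E) (h : PowGen E) : dg k E = 0 := by
  haveI := hX.isLocallyNoetherian
  obtain ⟨hD, -⟩ := DualDeg.isFinLocFree_dual hX.pid hE
  have h1 := dg_le_zero hX hE h (𝟙 E) hE
  have h2 := dg_le_zero hX hD (h.dual hX.pid hE) (𝟙 _) hD
  rw [hX.dg_dual hE] at h2
  omega

end Groth.Agent.WeilFin27
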