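import Groth.Agent.WeilFin27.Sheaf
import Groth.Agent.VBLib.PushTrace
import Groth.Agent.InjMod.ProjFramed
import Groth.Agent.S9716

/-!
# Bundles trivialised by a finite flat cover in characteristic zero
-/

set_option autoImplicit false
universe u

open CategoryTheory CategoryTheory.Limits AlgebraicGeometry Opposite TopologicalSpace
open Groth.Agent.KSMod Groth.Agent.VBLib Groth.Agent.FinCov71

noncomputable section

namespace Groth.Agent.WeilFin27

attribute [local instance] hasFiniteBiproducts

theorem hom_ext_one {X : Scheme.{u}} {M : X.Modules} {a b : Coh.structureModule X ⟶ M}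
    (h : a.app ⊤ (1 : Γ(X, ⊤)) = b.app ⊤ (1 : Γ(X, ⊤))) : a = b := by
  apply (SheafOfModules.unitHomEquiv (R := X.ringCatSheaf) M).injective
  refine Subtype.ext (funext fun U => ?_)
  have key : ∀ s : M.val.sections, s.val U = M.val.map (homOfLE le_top : U.unop ⟶ ⊤).op (s.val (op ⊤)) :=
    fun s => (s.property _).symm
  refine (key _).trans (Eq.trans ?_ (key _).symm)
  exact congrArg _ h

variable {X P : Scheme.{u}} (f : P ⟶ X) [IsFinite f] [Flat f] [LocallyOfFinitePresentation f]

theorem isFinLocFree_pushO : FlatMod.IsFinLocFree (PushTrace.pushO f) :=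
  KFlat.LocFree.isFinLocFree_of_iso (PushTrace.pushIso f).symm
    (((Groth.Agent.S9716.result f).2 ⟨inferInstance, inferInstance, inferInstance⟩).2)

variable [IsIntegral X] [Surjective f] (k : Type u) [Field k] [CharZero k] [X.Over (Spec (CommRingCat.of k))]
include k

/-- The structure sheaf is a direct summand of `f_* O`, by the trace. -/
theorem exists_retraction :
    ∃ (i : Coh.structureModule X ⟶ PushTrace.pushO f) (r : PushTrace.pushO f ⟶ Coh.structureModule X),
      i ≫ r = 𝟙 _ := by
  have hA := isFinLocFree_pushO f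
  let A := PushTrace.alg f
  let N := rk (PushTrace.pushO f)
  have htr : trAt hA (1 : Sec A ⊤) = (N : Γ(X, ⊤)) := by
    refine (trAt_unique hA fun V hV hf => ?_).symm
    rw [map_one, map_natCast]
    by_cases hne : Nonempty V
    · obtain ⟨U, m, e, hVU, he⟩ := hf
      haveI := hne
      haveI : Nontrivial Γ(X, V) := inferInstance
      obtain ⟨x⟩ := hne
      have hm : m = N := (rk_eq_of_isFrame he (genericPoint_mem_of_mem (hVU x.2))).symm
      haveI : Module.Free Γ(X, V) (Sec A V) := Module.Free.of_basis (frameBasis he hVU)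
      rw [← map_one (algebraMap Γ(X, V) (Sec A V)), Algebra.trace_algebraMap,
        Module.finrank_eq_card_basis (frameBasis he hVU), Fintype.card_fin, hm, nsmul_eq_mul, mul_one]
    · haveI : Subsingleton Γ(X, V) := CommRingCat.subsingleton_of_isTerminal (X.sheaf.isTerminalOfEqEmpty
        (Opens.ext (Set.eq_empty_iff_forall_notMem.2 fun x hx => hne ⟨⟨x, hx⟩⟩)))
      exact Subsingleton.elim _ _
  have hN : N ≠ 0 := by
    intro h0
    obtain ⟨z⟩ : Nonempty P := by
      obtain ⟨z, -⟩ := f.surjective (genericPoint X)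
      exact ⟨z⟩
    obtain ⟨V, hzV, -, -, hf⟩ := exists_affine_hasFrame hA (W := ⊤) (x := f z) trivial
    obtain ⟨U, m, e, hVU, he⟩ := hf
    obtain rfl : m = 0 := (rk_eq_of_isFrame he (genericPoint_mem_of_mem (hVU hzV))).symm.trans h0
    haveI : Nonempty (f ⁻¹ᵁ V : P.Opens) := ⟨⟨z, hzV⟩⟩
    haveI : Nontrivial (Sec A V) := inferInstanceAs (Nontrivial Γ(P, f ⁻¹ᵁ V))
    exact not_subsingleton (Sec A V) (frameBasis he hVU).repr.toEquiv.subsingleton
  let c : Γ(X, ⊤) := Coh.toGlobal (X ↘ Spec (CommRingCat.of k)) (N : k)⁻¹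
  obtain ⟨i, hi⟩ : ∃ i : Coh.structureModule X ⟶ PushTrace.pushO f,
      i.app ⊤ (1 : Γ(X, ⊤)) = toMod A (1 : Sec A ⊤) :=
    ⟨Props.GenLocus.homOfSec (toMod A (1 : Sec A ⊤)),
      (Props.GenLocus.sec_homOfSec (L := PushTrace.pushO f) (toMod A (1 : Sec A ⊤)) ⊤).trans
        (QCoh.res_self _ _ _)⟩
  refine ⟨i, trHom hA ≫ scal (Coh.structureModule X) c, hom_ext_one ?_⟩
  show (scal (Coh.structureModule X) c).app ⊤ ((trHom hA).app ⊤ (i.app ⊤ (1 : Γ(X, ⊤)))) = (1 : Γ(X, ⊤))
  rw [hi, scal_app]
  show rtop X ⊤ c * trAt hA (1 : Sec A ⊤) = 1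
  rw [htr, show rtop X ⊤ c = c from by
    show X.presheaf.map (homOfLE le_top).op c = c
    rw [show (homOfLE (le_top : (⊤ : X.Opens) ≤ ⊤)).op = 𝟙 _ from rfl, X.presheaf.map_id]
    rfl]
  show Coh.toGlobal (X ↘ Spec (CommRingCat.of k)) (N : k)⁻¹ * _ = 1
  refine (congrArg (Coh.toGlobal (X ↘ Spec (CommRingCat.of k)) (N : k)⁻¹ * ·)
    (map_natCast (Coh.toGlobal (X ↘ Spec (CommRingCat.of k))) N).symm).trans ?_
  refine (map_mul _ _ _).symm.trans ?_
  rw [inv_mul_cancel₀ (Nat.cast_ne_zero.mpr hN), map_one]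

/-- A bundle trivialised by such a cover has all powers generated by `f_* O`. -/
theorem powGen_of_trivial {r : ℕ} {E : X.Modules} (hE : FlatMod.IsFinLocFree E)
    (e : (Scheme.Modules.pullback f).obj E ≅ FlatMod.freeMod P r) : PowGen E := by
  have hA := isFinLocFree_pushO f
  obtain ⟨i, ρ, hiρ⟩ := exists_retraction f k
  let AF : Unit → X.Modules := fun _ => PushTrace.pushO f
  let OF : Fin 1 → P.Modules := fun _ => Coh.structureModule P
  refine ⟨Unit, inferInstance, AF, fun _ => hA, genF_pw ?_ fun _ => ?_⟩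
  · exact (GenF.self AF ()).retract i ρ hiρ
  · have hfr : GenF OF (FlatMod.freeMod P r) :=
      (GenF.of_dec (decSigmaObj (fun _ : Fin r => Coh.structureModule P))).trans fun _ =>
        GenF.self OF 0
    have hpE : GenF OF ((Scheme.Modules.pullback f).obj E) := hfr.ofIso e
    have hT : GenF OF ((ChgRings.tensR ((Scheme.Modules.pullback f).obj E)).obj (Coh.structureModule P)) :=
      hpE.ofIso (ProjTwist.oneTens _)
    have hP : GenF AF ((Scheme.Modules.pushforward f).obj
        ((ChgRings.tensR ((Scheme.Modules.pullback f).obj E)).obj (Coh.structureModule P))) :=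
      (hT.map (Scheme.Modules.pushforward f)).trans fun _ =>
        (GenF.self AF ()).ofIso (PushTrace.pushIso f).symm
    have hP' : GenF AF (CohB1.tensorMod ((Scheme.Modules.pushforward f).obj (Coh.structureModule P)) E) :=
      hP.ofIso ((InjMod.projFramedIso f (InjMod.hasFrames_of_isFinLocFree hE)).app (Coh.structureModule P))
    exact hP'.ofIso (ProjTwist.tensCongr (PushTrace.pushIso f) (Iso.refl E))

end Groth.Agent.WeilFin27
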