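import Groth.Agent.WeilFin27.Gen
import Groth.Agent.KSMod.EndFinite
import Groth.Agent.KSMod.Invertible
import Groth.Agent.InjMod.Dual
import Groth.Agent.InjMod.HomShBridge
import Groth.Agent.InjMod.HomComp
import Groth.Agent.VBLib.DualDeg
import Groth.Agent.AmpleFam.Resolution
import Groth.Agent.LFFrame.Basic
import Groth.Agent.KFlat.LocFree
import Groth.Prelude.Def_CohB1

/-!
# Vector bundles finite in the sense of Weil
-/

set_option autoImplicit false
universe u

open CategoryTheory CategoryTheory.Limits AlgebraicGeometry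
open Groth.Agent.KSMod

noncomputable section

namespace Groth.Agent.WeilFin27

attribute [local instance] hasFiniteBiproducts

variable {X : Scheme.{u}}

/-- The tensor powers. -/
abbrev pw (E : X.Modules) : ℕ → X.Modules := fun n => CohB1.tensorPow E n

/-- Finite in the sense of Weil. -/
def WeilFinite (E : X.Modules) : Prop :=
  ∃ P Q : Polynomial ℕ, P ≠ Q ∧ Nonempty (pval (pw E) P ≅ pval (pw E) Q)

/-- All tensor powers are generated by finitely many vector bundles. -/
def PowGen (E : X.Modules) : Prop :=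
  ∃ (ι : Type) (_ : Fintype ι) (Bs : ι → X.Modules),
    (∀ i, FlatMod.IsFinLocFree (Bs i)) ∧ ∀ n, GenF Bs (pw E n)

theorem isFinLocFree_one : FlatMod.IsFinLocFree (Coh.structureModule X) :=
  VBLib.isFinLocFree_of_ofRank (ProjTwist.isFinLocFreeOfRank_one (LFFrame.isInvertible_structureModule X))

theorem isFinLocFree_pw {E : X.Modules} (hE : FlatMod.IsFinLocFree E) :
    ∀ n, FlatMod.IsFinLocFree (pw E n)
  | 0 => isFinLocFree_one
  | n + 1 => KFlat.TensorLocFree.isFinLocFree_tensM (isFinLocFree_pw hE n) hE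

theorem genF_mapTens {ι : Type} {Bs : ι → X.Modules} {M : X.Modules} (h : GenF Bs M) (N : X.Modules) :
    GenF (fun i => CohB1.tensorMod (Bs i) N) (CohB1.tensorMod M N) :=
  h.map (tR N)

theorem genF_tens {ι κ : Type} {Bs : ι → X.Modules} {Cs : κ → X.Modules} {M N : X.Modules}
    (h : GenF Bs M) (h' : GenF Cs N) :
    GenF (fun z : ι × κ => CohB1.tensorMod (Bs z.1) (Cs z.2)) (CohB1.tensorMod M N) := by
  let T : ι × κ → X.Modules := fun z => CohB1.tensorMod (Bs z.1) (Cs z.2)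
  show GenF T _
  refine (genF_mapTens h N).trans fun i => ?_
  have h1 : GenF (fun j => CohB1.tensorMod (Cs j) (Bs i)) (CohB1.tensorMod N (Bs i)) :=
    genF_mapTens h' (Bs i)
  have h2 : GenF (fun j => CohB1.tensorMod (Bs i) (Cs j)) (CohB1.tensorMod N (Bs i)) :=
    h1.congr fun j => ⟨ProjTwist.tensComm (Cs j) (Bs i)⟩
  refine (h2.ofIso (ProjTwist.tensComm (Bs i) N)).trans fun j => ?_
  exact GenF.self T (i, j)

/-- A family stable under `⊗ E` containing `O` generates all powers. -/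
theorem genF_pw {ι : Type} {Bs : ι → X.Modules} {E : X.Modules} (h0 : GenF Bs (Coh.structureModule X))
    (h : ∀ i, GenF Bs (CohB1.tensorMod (Bs i) E)) : ∀ n, GenF Bs (pw E n)
  | 0 => h0
  | n + 1 => (genF_mapTens (genF_pw h0 h n) E).trans h

/-- Once a power is generated by the earlier ones, so are all. -/
theorem genF_all {E : X.Modules} {d : ℕ} (h : GenF (fun i : Fin d => pw E ↑i) (pw E d)) :
    ∀ n, GenF (fun i : Fin d => pw E ↑i) (pw E n) := by
  intro n
  induction n with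
  | zero =>
    rcases Nat.eq_zero_or_pos d with rfl | hd
    · exact h
    · exact GenF.self (fun i : Fin d => pw E ↑i) ⟨0, hd⟩
  | succ n ih =>
    refine (genF_mapTens ih E).trans fun i => ?_
    show GenF (fun i : Fin d => pw E ↑i) (CohB1.tensorMod (pw E ↑i) E)
    rw [show CohB1.tensorMod (pw E ↑i) E = pw E ((↑i : ℕ) + 1) from
      (CohB1.tensorPow.eq_2 E ↑i).symm]
    rcases Nat.lt_or_ge (↑i + 1) d with hi | hi
    · exact GenF.self (fun i : Fin d => pw E ↑i) ⟨_, hi⟩
    · rwa [show (↑i : ℕ) + 1 = d by omega]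

theorem isFinLocFree_pval {E : X.Modules} (hE : FlatMod.IsFinLocFree E) (P : Polynomial ℕ) :
    FlatMod.IsFinLocFree (pval (pw E) P) :=
  KFlat.LocFree.isFinLocFree_of_iso (biproduct.isoCoproduct _)
    (AmpleFam.Resolution.isFinLocFree_biproduct _ fun i => KFlat.LocFree.isFinLocFree_of_iso (biproduct.isoCoproduct _)
      (AmpleFam.Resolution.isFinLocFree_biproduct _ fun _ => isFinLocFree_pw hE _))

section proper

variable (k : Type u) [Field k] [X.Over (Spec (CommRingCat.of k))]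
  [IsProper (X ↘ Spec (CommRingCat.of k))]
include k

theorem isArtinian_end {M : X.Modules} (hM : FlatMod.IsFinLocFree M) : IsArtinianRing (End M) :=
  haveI : IsLocallyNoetherian X :=
    LocallyOfFiniteType.isLocallyNoetherian (X ↘ Spec (CommRingCat.of k))
  KSMod.isArtinianRing_end k (X ↘ Spec (CommRingCat.of k)) M (VBLib.isCoh_of_isFinLocFree hM)

/-- Nori's criterion. -/
theorem weilFinite_iff {E : X.Modules} (hE : FlatMod.IsFinLocFree E) : WeilFinite E ↔ PowGen E := by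
  constructor
  · rintro ⟨P, Q, hPQ, ⟨e⟩⟩
    haveI := isArtinian_end k (isFinLocFree_pval hE P)
    obtain ⟨d, hd⟩ := gen_of_weil (fun n => isArtinian_end k (isFinLocFree_pw hE n)) hPQ e
    exact ⟨Fin d, inferInstance, _, fun i => isFinLocFree_pw hE _, genF_all hd⟩
  · rintro ⟨ι, _, Bs, hB, h⟩
    exact weil_of_gen (fun n => isArtinian_end k (isFinLocFree_pw hE n))
      (fun i => isArtinian_end k (hB i)) h

end proper

theorem PowGen.retract {E F : X.Modules} (h : PowGen E) (i : F ⟶ E) (p : E ⟶ F) (hip : i ≫ p = 𝟙 F) :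
    PowGen F := by
  obtain ⟨ι, _, Bs, hB, hg⟩ := h
  refine ⟨ι, inferInstance, Bs, hB, fun n => ?_⟩
  suffices H : ∃ (a : pw F n ⟶ pw E n) (b : pw E n ⟶ pw F n), a ≫ b = 𝟙 _ by
    obtain ⟨a, b, hab⟩ := H
    exact (hg n).retract a b hab
  induction n with
  | zero => exact ⟨𝟙 _, 𝟙 _, Category.id_comp _⟩
  | succ n ih =>
    obtain ⟨a, b, hab⟩ := ih
    let T := DCoh.tensorBi (X := X)
    refine ⟨(T.map a).app F ≫ (T.obj (pw E n)).map i, (T.obj (pw E n)).map p ≫ (T.map b).app F, ?_⟩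
    calc ((T.map a).app F ≫ (T.obj (pw E n)).map i) ≫ (T.obj (pw E n)).map p ≫ (T.map b).app F
        = (T.map a).app F ≫ ((T.obj (pw E n)).map (i ≫ p)) ≫ (T.map b).app F := by simp
      _ = (T.map (a ≫ b)).app F := by simp [hip]
      _ = 𝟙 _ := by rw [hab]; simp

theorem PowGen.ofIso {E F : X.Modules} (h : PowGen E) (e : F ≅ E) : PowGen F :=
  h.retract e.hom e.inv e.hom_inv_id

/-- The middle four interchange. -/
def midFour (A B C D : X.Modules) :
    CohB1.tensorMod (CohB1.tensorMod A B) (CohB1.tensorMod C D) ≅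
      CohB1.tensorMod (CohB1.tensorMod A C) (CohB1.tensorMod B D) :=
  ProjTwist.tensAssoc _ _ _ ≪≫
    ProjTwist.tensCongr (Iso.refl A) ((ProjTwist.tensAssoc B C D).symm ≪≫
      ProjTwist.tensCongr (ProjTwist.tensComm B C) (Iso.refl D) ≪≫ ProjTwist.tensAssoc C B D) ≪≫
    (ProjTwist.tensAssoc _ _ _).symm

/-- `(A ⊗ B) ⊗ C ≅ (A ⊗ C) ⊗ B` -/
def rightSwap (A B C : X.Modules) :
    CohB1.tensorMod (CohB1.tensorMod A B) C ≅ CohB1.tensorMod (CohB1.tensorMod A C) B :=
  ProjTwist.tensAssoc _ _ _ ≪≫ ProjTwist.tensCongr (Iso.refl A) (ProjTwist.tensComm B C) ≪≫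
    (ProjTwist.tensAssoc _ _ _).symm

/-- The tensor product of two bundles of this kind. -/
theorem PowGen.tens {E₁ E₂ : X.Modules} (h₁ : PowGen E₁) (h₂ : PowGen E₂) : PowGen (CohB1.tensorMod E₁ E₂) := by
  obtain ⟨ι, _, Bs, hB, hg₁⟩ := h₁
  obtain ⟨κ, _, Cs, hC, hg₂⟩ := h₂
  refine ⟨ι × κ, inferInstance, fun z => CohB1.tensorMod (Bs z.1) (Cs z.2),
    fun z => KFlat.TensorLocFree.isFinLocFree_tensM (hB z.1) (hC z.2), fun n => ?_⟩
  suffices H : Nonempty (pw (CohB1.tensorMod E₁ E₂) n ≅ CohB1.tensorMod (pw E₁ n) (pw E₂ n)) by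
    exact (genF_tens (hg₁ n) (hg₂ n)).ofIso H.some
  induction n with
  | zero => exact ⟨(ProjTwist.oneTens _).symm⟩
  | succ n ih => exact ⟨ProjTwist.tensCongr ih.some (Iso.refl _) ≪≫ midFour _ _ _ _⟩

/-- The sum of two bundles of this kind. -/
theorem PowGen.sum {E₁ E₂ : X.Modules} (h₁ : PowGen E₁) (h₂ : PowGen E₂) : PowGen (E₁ ⊞ E₂) := by
  obtain ⟨ι, _, Bs, hB, hg₁⟩ := h₁
  obtain ⟨κ, _, Cs, hC, hg₂⟩ := h₂
  refine ⟨ι × κ, inferInstance, fun z => CohB1.tensorMod (Bs z.1) (Cs z.2),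
    fun z => KFlat.TensorLocFree.isFinLocFree_tensM (hB z.1) (hC z.2), fun n => ?_⟩
  let T : ℕ × ℕ → X.Modules := fun z => CohB1.tensorMod (pw E₁ z.1) (pw E₂ z.2)
  have hT : GenF T (pw (E₁ ⊞ E₂) n) := by
    induction n with
    | zero => exact (GenF.self T (0, 0)).ofIso (ProjTwist.oneTens _).symm
    | succ n ih =>
      have hs : GenF (fun b : Bool => cond b E₁ E₂) (E₁ ⊞ E₂) :=
        GenF.of_fintype (κ := Bool) id (fun b => b.rec biprod.snd biprod.fst)
          (fun b => b.rec biprod.inr biprod.inl) (by rw [Fintype.sum_bool]; exact biprod.total)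
      refine (genF_tens ih hs).trans ?_
      rintro ⟨⟨a, b⟩, _ | _⟩
      · exact (GenF.self T (a, b + 1)).ofIso (ProjTwist.tensAssoc _ _ _)
      · exact (GenF.self T (a + 1, b)).ofIso (rightSwap _ _ _)
  exact hT.trans fun z => genF_tens (hg₁ z.1) (hg₂ z.2)

section dual

open Groth.Agent.InjMod

theorem isFP [IsLocallyNoetherian X] {E : X.Modules} (hE : FlatMod.IsFinLocFree E) : CohB1.IsFP E :=
  HomShQC.isFP_of_isCoh E (VBLib.isCoh_of_isFinLocFree hE)

/-- The two duals agree. -/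
theorem nonempty_dual_dualMod [IsLocallyNoetherian X] {E : X.Modules} (hE : FlatMod.IsFinLocFree E) :
    haveI := KFlat.hasSheafHom X.sheaf E
    Nonempty (RefHull.dual E ≅ dualMod E) := by
  haveI := KFlat.hasSheafHom X.sheaf E
  haveI := isIso_homShTo E (Coh.structureModule X) (isFP hE)
  exact ⟨asIso (homShTo E (Coh.structureModule X))⟩

/-- The dual of a tensor product. -/
theorem nonempty_dual_tens [IsLocallyNoetherian X] {A B : X.Modules} (hA : FlatMod.IsFinLocFree A)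
    (hB : FlatMod.IsFinLocFree B) :
    Nonempty (RefHull.dual (CohB1.tensorMod A B) ≅ CohB1.tensorMod (RefHull.dual A) (RefHull.dual B)) := by
  haveI := KFlat.hasSheafHom X.sheaf A
  haveI := KFlat.hasSheafHom X.sheaf B
  haveI : ModSite.HasSheafHom (O := X.sheaf) (KFlat.StalkTensor.tensM A B) := KFlat.hasSheafHom X.sheaf _
  obtain ⟨a⟩ := nonempty_dual_dualMod hA
  obtain ⟨b⟩ := nonempty_dual_dualMod hB
  obtain ⟨c⟩ := nonempty_dual_dualMod (KFlat.TensorLocFree.isFinLocFree_tensM hA hB)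
  exact ⟨c ≪≫ (homCompIso A B).app (Coh.structureModule X) ≪≫
    ((dualIso (hasFrames_of_isFinLocFree hA)).app (dualMod B)).symm ≪≫
    ProjTwist.tensComm _ _ ≪≫ ProjTwist.tensCongr a.symm b.symm⟩

theorem nonempty_dual_one : Nonempty (RefHull.dual (Coh.structureModule X) ≅ Coh.structureModule X) := by
  obtain ⟨e⟩ := (VBLib.DualDeg.invertible_dual (LFFrame.isInvertible_structureModule X)).2
  exact ⟨(ProjTwist.oneTens _).symm ≪≫ e⟩

theorem nonempty_ddual [IsLocallyNoetherian X] {E : X.Modules} (hE : FlatMod.IsFinLocFree E)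
    (hD : FlatMod.IsFinLocFree (RefHull.dual E)) :
    Nonempty (E ≅ RefHull.dual (RefHull.dual E)) := by
  haveI := KFlat.hasSheafHom X.sheaf E
  haveI := KFlat.hasSheafHom X.sheaf (dualMod E)
  haveI := KFlat.hasSheafHom X.sheaf (RefHull.dual E)
  obtain ⟨a⟩ := nonempty_dual_dualMod hE
  obtain ⟨b⟩ := nonempty_dual_dualMod hD
  obtain ⟨t⟩ := nonempty_doubleDualIso (hasFrames_of_isFinLocFree hE)
  exact ⟨(ProjTwist.oneTens E).symm ≪≫ t.app (Coh.structureModule X) ≪≫
    ((homIsoOfIso a).app (Coh.structureModule X)).symm ≪≫ b.symm⟩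

open VBLib.DualDeg in
lemma dualMap_add {A B : X.Modules} (f g : A ⟶ B) : dualMap (f + g) = dualMap f + dualMap g := by
  ext U h
  refine Subtype.ext (funext fun x => ?_)
  show (h.1 x).comp (RefHull.stalkMapₗ (f + g) x.1) =
    (h.1 x).comp (RefHull.stalkMapₗ f x.1) + (h.1 x).comp (RefHull.stalkMapₗ g x.1)
  rw [← LinearMap.comp_add]
  refine LinearMap.ext fun t => congrArg (h.1 x) ?_
  obtain ⟨W, hW, m, rfl⟩ := PullStalk.Sky.exists_germM_eq A x.1 t
  rw [LinearMap.add_apply, RefHull.stalkMapₗ_germ, RefHull.stalkMapₗ_germ, RefHull.stalkMapₗ_germ]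
  exact map_add (B.presheaf.germ W x.1 hW).hom _ _

open VBLib.DualDeg in
lemma dualMap_id (A : X.Modules) : dualMap (𝟙 A) = 𝟙 _ := by
  ext U h
  refine Subtype.ext (funext fun x => ?_)
  show (h.1 x).comp (RefHull.stalkMapₗ (𝟙 A) x.1) = h.1 x
  refine LinearMap.ext fun t => congrArg (h.1 x) ?_
  obtain ⟨W, hW, m, rfl⟩ := PullStalk.Sky.exists_germM_eq A x.1 t
  rw [RefHull.stalkMapₗ_germ]
  rfl

theorem genF_dual {ι : Type} {Bs : ι → X.Modules} {M : X.Modules} (h : GenF Bs M) :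
    GenF (fun i => RefHull.dual (Bs i)) (RefHull.dual M) := by
  obtain ⟨n, c, f, g, hfg⟩ := h
  refine ⟨n, c, fun j => VBLib.DualDeg.dualMap (g j), fun j => VBLib.DualDeg.dualMap (f j), ?_⟩
  simp only [← VBLib.DualDeg.dualMap_comp]
  let φ : (M ⟶ M) →+ (RefHull.dual M ⟶ RefHull.dual M) := AddMonoidHom.mk' VBLib.DualDeg.dualMap dualMap_add
  refine (map_sum φ _ Finset.univ).symm.trans ?_
  rw [hfg]
  exact dualMap_id M

/-- The dual of a bundle of this kind. -/
theorem PowGen.dual [IsLocallyNoetherian X] (hP : ∀ x : X, IsPrincipalIdealRing (X.presheaf.stalk x))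
    [IsIntegral X] {E : X.Modules} (hE : FlatMod.IsFinLocFree E) (h : PowGen E) :
    PowGen (RefHull.dual E) := by
  obtain ⟨ι, _, Bs, hB, hg⟩ := h
  refine ⟨ι, inferInstance, fun i => RefHull.dual (Bs i),
    fun i => (VBLib.DualDeg.isFinLocFree_dual hP (hB i)).1, fun n => ?_⟩
  suffices H : Nonempty (pw (RefHull.dual E) n ≅ RefHull.dual (pw E n)) by
    exact (genF_dual (hg n)).ofIso H.some
  induction n with
  | zero => exact ⟨nonempty_dual_one.some.symm⟩
  | succ n ih =>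
    exact ⟨ProjTwist.tensCongr ih.some (Iso.refl _) ≪≫
      (nonempty_dual_tens (isFinLocFree_pw hE n) hE).some.symm⟩

end dual

section line

/-- For line bundles the condition is torsion in the Picard group. -/
theorem powGen_of_torsion {L : X.Modules} (hL : FlatMod.IsFinLocFree L) {m : ℕ}
    (hm : 0 < m) (e : pw L m ≅ Coh.structureModule X) : PowGen L :=
  ⟨Fin m, inferInstance, _, fun _ => isFinLocFree_pw hL _,
    genF_all ((GenF.self (fun i : Fin m => pw L ↑i) ⟨0, hm⟩).ofIso e)⟩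

variable (k : Type u) [Field k] [X.Over (Spec (CommRingCat.of k))]
  [IsProper (X ↘ Spec (CommRingCat.of k))] [IsIntegral X]
include k

theorem torsion_of_weilFinite {L : X.Modules} (hL : PicF.IsInvertible L) (h : WeilFinite L) :
    ∃ m, 0 < m ∧ Nonempty (pw L m ≅ Coh.structureModule X) := by
  have hLf := VBLib.isFinLocFree_of_ofRank (ProjTwist.isFinLocFreeOfRank_one hL)
  obtain ⟨P, Q, hPQ, ⟨e⟩⟩ := h
  haveI := isArtinian_end k (isFinLocFree_pval hLf P)
  obtain ⟨d, hd⟩ := gen_of_weil (fun n => isArtinian_end k (isFinLocFree_pw hLf n)) hPQ e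
  have hinv : ∀ n, PicF.IsInvertible (pw L n) := fun n => KSMod.isInvertible_tensorPow hL n
  have hind : ∀ n, Indec (pw L n) := fun n => KSMod.indec_of_isInvertible (hinv n)
  haveI := isArtinian_end k (isFinLocFree_pw hLf d)
  obtain ⟨i, ⟨f⟩⟩ := exists_iso_of_genF (hind d) (fun i : Fin d => hind ↑i) hd
  have hadd : ∀ n, Nonempty (pw L (↑i + n) ≅ CohB1.tensorMod (pw L n) (pw L ↑i)) := fun n => by
    induction n with
    | zero => exact ⟨(ProjTwist.oneTens _).symm⟩
    | succ n ih => exact ⟨ProjTwist.tensCongr ih.some (Iso.refl L) ≪≫ rightSwap _ _ _⟩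
  obtain ⟨M, -, ⟨c⟩⟩ := PicLaw.exists_inverse (hinv ↑i)
  refine ⟨d - ↑i, by omega, ?_⟩
  obtain ⟨a⟩ := hadd (d - ↑i)
  rw [show (↑i : ℕ) + (d - ↑i) = d by omega] at a
  exact ⟨(ProjTwist.tensOne _).symm ≪≫ ProjTwist.tensCongr (Iso.refl _) c.symm ≪≫
    (ProjTwist.tensAssoc _ _ _).symm ≪≫ ProjTwist.tensCongr (a.symm ≪≫ f) (Iso.refl M) ≪≫ c⟩

end line

end Groth.Agent.WeilFin27
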