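import Groth.Agent.Props.GenPull
import Groth.Agent.PicLaw.Basic
import Groth.Agent.PicCl.Basic
import Groth.Agent.KRRLib.PullVb
import Groth.Agent.EulerChar.AmpleCurve
import Groth.Agent.VBLib.FreeSub
import Groth.Agent.VBLib.GenSub
import Groth.Agent.VBLib.H0Bound
import Groth.Agent.VBLib.H0Large
import Groth.Agent.VBHom27.Curve
import Groth.Agent.VBLib.LineCalc
import Groth.Agent.KSMod.Tensor
import Groth.Prelude.Def_Frob

/-!
# Sections of Frobenius pull-backs of vector bundles on a curve
-/

set_option autoImplicit false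
universe u

open CategoryTheory CategoryTheory.Limits AlgebraicGeometry
open Groth.Agent.VBLib

noncomputable section

namespace Groth.Agent.WeilFin27

variable {X : Scheme.{u}} (p : ℕ) [Fact p.Prime] [FrobSch.IsCharP X p]

open Groth.Agent.QCoh Groth.Agent.Props.GenLocus Groth.Agent.Props.GenTensor in
/-- The Frobenius pull-back of an invertible module is its `p`-th power. -/
theorem nonempty_frob_pull {L : X.Modules} (hL : PicF.IsInvertible L) :
    Nonempty ((Scheme.Modules.pullback (FrobSch.frob X p)).obj L ≅ CohB1.tensorPow L p) := by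
  let ι := {z : Σ W : X.Opens, Γ(L, W) // IsGen L z.1 z.2}
  refine PicLaw.nonempty_iso_of_transition (fun i : ι => FrobSch.frob X p ⁻¹ᵁ i.1.1)
    (fun x => ?_) (fun i => Props.GenPull.pb (FrobSch.frob X p) i.1.2)
    (fun i => Props.GenPull.isGen_pb (FrobSch.frob X p) i.2)
    (fun i => pw L i.1.2 p) (fun i => isGen_pw i.2 p) ?_
  · obtain ⟨U, e, hU, he⟩ := exists_isGen hL x
    exact ⟨⟨⟨U, e⟩, he⟩, hU⟩
  rintro ⟨⟨W, e⟩, he⟩ ⟨⟨W', e'⟩, he'⟩ V (hi : V ≤ W) (hj : V ≤ W')
  obtain ⟨a, ha, -⟩ := he.exists_eq hi (res L hj e')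
  refine ⟨(FrobSch.frob X p).app V a, ?_, ?_⟩
  · have h := congrArg (LFFrame.unitSec (FrobSch.frob X p) L V) ha
    rw [LFFrame.unitSec_smul, LFFrame.unitSec_res, LFFrame.unitSec_res] at h
    exact h
  · have key : res (CohB1.tensorPow L p) hj (pw L e' p) = a ^ p • res (CohB1.tensorPow L p) hi (pw L e p) := by
      rw [res_pw, res_pw, ha, pw_smul]
    exact key

/-- Iterated Frobenius pull-back, as a functor. -/
def frobF : ℕ → (X.Modules ⥤ X.Modules)
  | 0 => 𝟭 _
  | n + 1 => frobF n ⋙ Scheme.Modules.pullback (FrobSch.frob X p)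

theorem frobF_obj (E : X.Modules) : ∀ n : ℕ,
    (frobF p n).obj E = ((Scheme.Modules.pullback (FrobSch.frob X p)).obj)^[n] E
  | 0 => rfl
  | n + 1 => by
    rw [Function.iterate_succ_apply', ← frobF_obj E n]
    rfl

theorem isFinLocFree_frobF {E : X.Modules} (hE : FlatMod.IsFinLocFree E) :
    ∀ n, FlatMod.IsFinLocFree ((frobF p n).obj E)
  | 0 => hE
  | n + 1 => KFlat.LocFree.isFinLocFree_pull _ (isFinLocFree_frobF hE n)

theorem isInvertible_frobF {E : X.Modules} (hE : PicF.IsInvertible E) :
    ∀ n, PicF.IsInvertible ((frobF p n).obj E)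
  | 0 => hE
  | n + 1 => PicCl.isInvertible_pullback _ (isInvertible_frobF hE n)

theorem exists_shortExact_frobF {A B C : X.Modules} {f : A ⟶ B} {g : B ⟶ C} {w : f ≫ g = 0}
    (hS : (ShortComplex.mk f g w).ShortExact) (hC : FlatMod.IsFinLocFree C) :
    ∀ n, ∃ (f' : (frobF p n).obj A ⟶ (frobF p n).obj B) (g' : (frobF p n).obj B ⟶ (frobF p n).obj C)
      (w' : f' ≫ g' = 0), (ShortComplex.mk f' g' w').ShortExact
  | 0 => ⟨f, g, w, hS⟩
  | n + 1 => by
    obtain ⟨f', g', w', h⟩ := exists_shortExact_frobF hS hC n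
    exact ⟨_, _, _, KRRLib.shortExact_pull (FrobSch.frob X p) h (isFinLocFree_frobF p hC n)⟩

variable {k : Type u} [Field k] [IsAlgClosed k] [X.Over (Spec (CommRingCat.of k))] [IsIntegral X]
  [IsProper (X ↘ Spec (CommRingCat.of k))]

theorem dg_frobF (hdim : topologicalKrullDim X = 1) {L : X.Modules} (hL : PicF.IsInvertible L) :
    ∀ n, dg k ((frobF p n).obj L) = (p : ℤ) ^ n * dg k L
  | 0 => by
    show dg k L = _
    simp
  | n + 1 => by
    have h := isInvertible_frobF p hL n
    obtain ⟨e⟩ := nonempty_frob_pull p h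
    have h1 := EulerChar.deg_iso (n := 1) k e
    rw [EulerChar.deg_tensorPow k hdim h, dg_eq (ofRank_one_of_invertible h),
      dg_frobF hdim hL n] at h1
    rw [dg_eq (ofRank_one_of_invertible (PicCl.isInvertible_pullback (FrobSch.frob X p) h))] at h1
    refine h1.trans ?_
    ring

/-- The bound for line bundles. -/
theorem exists_bound_line [Smooth (X ↘ Spec (CommRingCat.of k))] (hdim : topologicalKrullDim X = 1)
    (pt : Spec (CommRingCat.of k) ⟶ X) (hpt : pt ≫ (X ↘ Spec (CommRingCat.of k)) = 𝟙 _)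
    {L : X.Modules} (hL : PicF.IsInvertible L) {E : X.Modules} (hE : FlatMod.IsFinLocFree E) (hr : rk E = 1) :
    ∃ M : ℕ, ∀ n, Module.finrank k (Coh.HH X (CohB1.tensorMod ((frobF p n).obj E) L) 0) ≤ M * p ^ n := by
  have hX : GoodCurve k X := goodCurve_of_smooth hdim
  haveI := hX.isLocallyNoetherian
  have hLf := isFinLocFree_of_ofRank (ofRank_one_of_invertible hL)
  have hT : ∀ n, FlatMod.IsFinLocFree (CohB1.tensorMod ((frobF p n).obj E) L) := fun n =>
    KFlat.TensorLocFree.isFinLocFree_tensM (isFinLocFree_frobF p hE n) hLf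
  have hinv : PicF.IsInvertible E := LineCalc.isInvertible_of_rk_one hE hr
  refine ⟨(dg k E).toNat + (dg k L).toNat + 1, fun n => ?_⟩
  have hF := isInvertible_frobF p hinv n
  have h1 : rk (CohB1.tensorMod ((frobF p n).obj E) L) = 1 := by
    refine (VBHom27.rk_tens (isFinLocFree_frobF p hE n) hLf).2.trans ?_
    rw [rk_eq (ofRank_one_of_invertible hF),
      rk_eq (ofRank_one_of_invertible hL)]
  have hd : dg k (CohB1.tensorMod ((frobF p n).obj E) L) = (p : ℤ) ^ n * dg k E + dg k L := by
    refine (VBHom27.dg_tens hX (isFinLocFree_frobF p hE n) hLf).trans ?_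
    rw [rk_eq (ofRank_one_of_invertible hF),
      rk_eq (ofRank_one_of_invertible hL), dg_frobF p hdim hinv n]
    push_cast
    ring
  have hpn : 1 ≤ p ^ n := Nat.one_le_pow _ _ (Fact.out : p.Prime).pos
  have h := hX.finrank_H0_le_mul pt hpt (((dg k E).toNat + (dg k L).toNat + 1) * p ^ n) (hT n)
    fun M i hi hM hM1 => by
      haveI := hi
      have hle := (hX.dg_le_of_mono i (isCoh_of_isFinLocFree hM) (isCoh_of_isFinLocFree (hT n))
        (by omega)).1
      have h2 : (p : ℤ) ^ n * dg k E ≤ (p : ℤ) ^ n * ((dg k E).toNat : ℤ) :=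
        mul_le_mul_of_nonneg_left (Int.self_le_toNat _) (by positivity)
      have h3 : dg k L ≤ ((dg k L).toNat : ℤ) * (p : ℤ) ^ n :=
        (Int.self_le_toNat _).trans (le_mul_of_one_le_right (Int.natCast_nonneg _) (by exact_mod_cast hpn))
      have h4 : (1 : ℤ) ≤ (p : ℤ) ^ n := by exact_mod_cast hpn
      push_cast
      rw [hd] at hle
      nlinarith
  rw [h1, one_mul] at h
  exact h

/-- The bound, by induction on the rank. -/
theorem exists_bound_frob [Smooth (X ↘ Spec (CommRingCat.of k))] (hdim : topologicalKrullDim X = 1)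
    (pt : Spec (CommRingCat.of k) ⟶ X) (hpt : pt ≫ (X ↘ Spec (CommRingCat.of k)) = 𝟙 _)
    {L : X.Modules} (hL : PicF.IsInvertible L) :
    ∀ (r : ℕ) (E : X.Modules), FlatMod.IsFinLocFree E → rk E = r →
      ∃ M : ℕ, ∀ n, Module.finrank k (Coh.HH X (CohB1.tensorMod ((frobF p n).obj E) L) 0) ≤ M * p ^ n := by
  have hX : GoodCurve k X := goodCurve_of_smooth hdim
  haveI := hX.isLocallyNoetherian
  have hLf := isFinLocFree_of_ofRank (ofRank_one_of_invertible hL)
  have hT : ∀ {E : X.Modules}, FlatMod.IsFinLocFree E → ∀ n,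
      FlatMod.IsFinLocFree (CohB1.tensorMod ((frobF p n).obj E) L) := fun hE n =>
    KFlat.TensorLocFree.isFinLocFree_tensM (isFinLocFree_frobF p hE n) hLf
  intro r
  induction r with
  | zero =>
    intro E hE h0
    refine ⟨0, fun n => ?_⟩
    have hz : IsZero ((frobF p n).obj E) := by
      induction n with
      | zero => exact isZero_of_rk_eq_zero hE h0
      | succ n ih =>
        haveI : (Scheme.Modules.pullback (FrobSch.frob X p)).IsLeftAdjoint :=
          (Scheme.Modules.pullbackPushforwardAdjunction _).isLeftAdjoint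
        exact (Scheme.Modules.pullback (FrobSch.frob X p)).map_isZero ih
    have hz' : IsZero (CohB1.tensorMod ((frobF p n).obj E) L) := (KSMod.tR L).map_isZero hz
    haveI : Subsingleton Γ(CohB1.tensorMod ((frobF p n).obj E) L, ⊤) := by
      refine subsingleton_of_forall_eq 0 fun s => ?_
      have h := congrArg (fun f : CohB1.tensorMod ((frobF p n).obj E) L ⟶ CohB1.tensorMod ((frobF p n).obj E) L =>
        f.app ⊤ s) ((IsZero.iff_id_eq_zero _).mp hz')
      exact h
    haveI : Subsingleton (Coh.HH X (CohB1.tensorMod ((frobF p n).obj E) L) 0) :=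
      (GenusZero.toSec _).injective.subsingleton
    rw [Module.finrank_zero_of_subsingleton]
    exact Nat.zero_le _
  | succ r ih =>
    intro E hE hr
    rcases Nat.eq_zero_or_pos r with rfl | hr0
    · exact exists_bound_line p hdim pt hpt hL hE hr
    · have hEc := isCoh_of_isFinLocFree hE
      haveI := hEc.1
      letI : Field (X.presheaf.stalk (genericPoint X)) := inferInstanceAs (Field X.functionField)
      haveI := finite_stalk hEc (genericPoint X)
      have hpos : 0 < Module.finrank (X.presheaf.stalk (genericPoint X)) (E.presheaf.stalk (genericPoint X)) := by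
        rw [show Module.finrank _ _ = rk E from rfl, hr]; omega
      haveI : Nontrivial (E.presheaf.stalk (genericPoint X)) := Module.nontrivial_of_finrank_pos hpos
      obtain ⟨v, hv⟩ := exists_ne (0 : E.presheaf.stalk (genericPoint X))
      let V := Submodule.span (X.presheaf.stalk (genericPoint X)) {v}
      have hA : FlatMod.IsFinLocFree (genSub V) := hX.sub (genIncl V) (isQuasicoherent_genSub V) hE
      have hAc := isCoh_of_isFinLocFree hA
      have hQ : FlatMod.IsFinLocFree (cokernel (genIncl V)) :=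
        isFinLocFree_of_torsionFree hX.pid (isCoh_cokernel _ hAc hEc) (isTorsionFree_stalk_cokernel V)
      have hA1 : rk (genSub V) = 1 := by rw [rk_genSub]; exact finrank_span_singleton hv
      let S := ShortComplex.mk (genIncl V) (cokernel.π (genIncl V)) (cokernel.condition _)
      have hS : S.ShortExact := { exact := S.exact_of_g_is_cokernel (cokernelIsCokernel _) }
      have hradd := (hX.dg_mono_cokernel (genIncl V) hAc hEc).2
      have hQr : rk (cokernel (genIncl V)) = r := by omega
      have hAinv : PicF.IsInvertible (genSub V) := LineCalc.isInvertible_of_rk_one hA hA1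
      obtain ⟨M₁, hM₁⟩ : ∃ M : ℕ, ∀ n,
          Module.finrank k (Coh.HH X (CohB1.tensorMod ((frobF p n).obj (genSub V)) L) 0) ≤ M * p ^ n :=
        exists_bound_line p hdim pt hpt hL hA hA1
      obtain ⟨M₂, hM₂⟩ := ih _ hQ hQr
      refine ⟨M₁ + M₂, fun n => ?_⟩
      obtain ⟨f', g', w', h⟩ := exists_shortExact_frobF p hS hQ n
      have hle := hX.h0_le_add (ProjTwist.shortExact_tensor hL h) (isCoh_of_isFinLocFree (hT hA n))
        (isCoh_of_isFinLocFree (hT hE n)) (isCoh_of_isFinLocFree (hT hQ n))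
      calc _ ≤ _ := hle
        _ ≤ M₁ * p ^ n + M₂ * p ^ n := Nat.add_le_add (hM₁ n) (hM₂ n)
        _ = (M₁ + M₂) * p ^ n := by ring

end Groth.Agent.WeilFin27
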