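import Groth.Agent.KSMod.Tensor
import Mathlib.LinearAlgebra.FiniteDimensional.Lemmas
import Mathlib.LinearAlgebra.Dimension.StrongRankCondition

/-!
# Nori's criterion in a Krull-Schmidt category

Objects generated by a finite family, and the criterion: a sequence of objects satisfies a
nontrivial relation with natural coefficients iff finitely many indecomposables occur in it.
-/

set_option autoImplicit false

open CategoryTheory CategoryTheory.Limits
open Groth.Agent.KSMod

universe w u v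

noncomputable section

namespace Groth.Agent.WeilFin27

variable {C : Type u} [Category.{v} C]

section preadditive

variable [Preadditive C]

/-- The identity of `M` is a sum of composites through members of the family `Bs`. -/
def GenF {ι : Type w} (Bs : ι → C) (M : C) : Prop :=
  ∃ (n : ℕ) (c : Fin n → ι) (f : ∀ j, M ⟶ Bs (c j)) (g : ∀ j, Bs (c j) ⟶ M), ∑ j, f j ≫ g j = 𝟙 M

theorem GenF.of_fintype {ι : Type w} {Bs : ι → C} {M : C} {κ : Type} [Fintype κ] (c : κ → ι)
    (f : ∀ j, M ⟶ Bs (c j)) (g : ∀ j, Bs (c j) ⟶ M) (h : ∑ j, f j ≫ g j = 𝟙 M) : GenF Bs M :=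
  ⟨Fintype.card κ, fun j => c ((Fintype.equivFin κ).symm j), fun _ => f _, fun _ => g _,
    ((Fintype.equivFin κ).symm.sum_comp fun j => f j ≫ g j).trans h⟩

theorem GenF.self {ι : Type w} (Bs : ι → C) (i : ι) : GenF Bs (Bs i) :=
  ⟨1, fun _ => i, fun _ => 𝟙 _, fun _ => 𝟙 _, by simp⟩

theorem GenF.trans {ι κ : Type w} {Bs : ι → C} {Cs : κ → C} {M : C} (h : GenF Bs M)
    (h' : ∀ i, GenF Cs (Bs i)) : GenF Cs M := by
  obtain ⟨n, c, f, g, hfg⟩ := h
  choose m d p q hpq using h'
  refine GenF.of_fintype (κ := Σ j : Fin n, Fin (m (c j))) (fun z => d (c z.1) z.2)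
    (fun z => f z.1 ≫ p (c z.1) z.2) (fun z => q (c z.1) z.2 ≫ g z.1) ?_
  rw [Fintype.sum_sigma, ← hfg]
  refine Finset.sum_congr rfl fun j _ => ?_
  calc ∑ l, (f j ≫ p (c j) l) ≫ q (c j) l ≫ g j = f j ≫ (∑ l, p (c j) l ≫ q (c j) l) ≫ g j := by
        rw [Preadditive.sum_comp, Preadditive.comp_sum]; simp
    _ = f j ≫ g j := by rw [hpq, Category.id_comp]

theorem GenF.retract {ι : Type w} {Bs : ι → C} {A M : C} (h : GenF Bs M) (i : A ⟶ M) (p : M ⟶ A)
    (hip : i ≫ p = 𝟙 A) : GenF Bs A := by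
  obtain ⟨n, c, f, g, hfg⟩ := h
  refine ⟨n, c, fun j => i ≫ f j, fun j => g j ≫ p, ?_⟩
  calc ∑ j, (i ≫ f j) ≫ g j ≫ p = i ≫ (∑ j, f j ≫ g j) ≫ p := by
        rw [Preadditive.sum_comp, Preadditive.comp_sum]; simp
    _ = 𝟙 A := by rw [hfg, Category.id_comp, hip]

theorem GenF.ofIso {ι : Type w} {Bs : ι → C} {A M : C} (h : GenF Bs M) (e : A ≅ M) : GenF Bs A :=
  h.retract e.hom e.inv e.hom_inv_id

theorem GenF.congr {ι : Type w} {Bs Bs' : ι → C} {M : C} (h : GenF Bs M)
    (e : ∀ i, Nonempty (Bs i ≅ Bs' i)) : GenF Bs' M :=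
  h.trans fun i => (GenF.self Bs' i).ofIso (e i).some

theorem GenF.map {D : Type*} [Category D] [Preadditive D] {ι : Type w} {Bs : ι → C} {M : C}
    (h : GenF Bs M) (G : C ⥤ D) [G.Additive] : GenF (fun i => G.obj (Bs i)) (G.obj M) := by
  obtain ⟨n, c, f, g, hfg⟩ := h
  refine ⟨n, c, fun j => G.map (f j), fun j => G.map (g j), ?_⟩
  simp only [← Functor.map_comp, ← G.map_sum, hfg, G.map_id]

theorem GenF.of_dec {ι : Type} [Fintype ι] {Fs : ι → C} {M : C} (d : Dec M Fs) : GenF Fs M :=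
  GenF.of_fintype id d.proj d.inj d.total

/-- Refinement of a decomposition, with varying index types. -/
def decSigma {F : C} {ι : Type} [Fintype ι] {κ : ι → Type} [∀ i, Fintype (κ i)] {Fs : ι → C}
    (d : Dec F Fs) {Gs : ∀ i, κ i → C} (g : ∀ i, Dec (Fs i) (Gs i)) :
    Dec F (fun z : Σ i, κ i => Gs z.1 z.2) where
  inj z := (g z.1).inj z.2 ≫ d.inj z.1
  proj z := d.proj z.1 ≫ (g z.1).proj z.2
  inj_proj z := by simp [reassoc_of% (d.inj_proj z.1), (g z.1).inj_proj]
  inj_proj_ne := by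
    rintro ⟨i, l⟩ ⟨j, l'⟩ h
    dsimp only
    by_cases hij : i = j
    · subst hij
      rw [Category.assoc, reassoc_of% (d.inj_proj i)]
      exact (g i).inj_proj_ne l l' fun h' => h (by rw [h'])
    · rw [Category.assoc, reassoc_of% (d.inj_proj_ne i j hij), zero_comp, comp_zero]
  total := by
    rw [Fintype.sum_sigma]
    refine Eq.trans (Finset.sum_congr rfl fun i _ => ?_) d.total
    simp only [Category.assoc, ← Preadditive.comp_sum]
    simp only [← Category.assoc ((g i).proj _), ← Preadditive.sum_comp, (g i).total, Category.id_comp]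

end preadditive

section abelian

variable [Abelian C]

theorem hasFiniteBiproducts : HasFiniteBiproducts C := Abelian.hasFiniteBiproducts

attribute [local instance] hasFiniteBiproducts

/-- A coproduct decomposes into its terms. -/
def decSigmaObj {ι : Type} [Fintype ι] (Fs : ι → C) : Dec (∐ Fs) Fs :=
  Dec.ofIso (biproduct.isoCoproduct Fs).symm

/-- The value of a polynomial at a sequence of objects. -/
abbrev pval (pw : ℕ → C) (P : Polynomial ℕ) : C :=
  ∐ fun i : Fin (P.natDegree + 1) => ∐ fun _ : Fin (P.coeff ↑i) => pw ↑i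

/-- The indices of the summands of `pval`. -/
abbrev PIdx (P : Polynomial ℕ) (N : ℕ → ℕ) : Type :=
  Σ z : (Σ i : Fin (P.natDegree + 1), Fin (P.coeff ↑i)), Fin (N ↑z.1)

/-- Summands of a value of a polynomial. -/
def decPval (pw : ℕ → C) (P : Polynomial ℕ) {N : ℕ → ℕ} {Fs : ∀ n, Fin (N n) → C}
    (d : ∀ n, Dec (pw n) (Fs n)) : Dec (pval pw P) (fun z : PIdx P N => Fs ↑z.1.1 z.2) :=
  decSigma (Fs := fun z : (Σ i : Fin (P.natDegree + 1), Fin (P.coeff ↑i)) => pw ↑z.1)
    (decSigma (κ := fun i : Fin (P.natDegree + 1) => Fin (P.coeff ↑i))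
      (Gs := fun i _ => pw ↑i) (decSigmaObj fun i : Fin (P.natDegree + 1) => ∐ fun _ : Fin (P.coeff ↑i) => pw ↑i)
      fun i => decSigmaObj fun _ : Fin (P.coeff ↑i) => pw ↑i)
    (κ := fun z => Fin (N ↑z.1)) (Gs := fun z => Fs ↑z.1) fun z => d ↑z.1

open Classical in
theorem card_filter_pIdx (P : Polynomial ℕ) {N : ℕ → ℕ} (p : ∀ n, Fin (N n) → Prop) :
    Nat.card {z : PIdx P N // p ↑z.1.1 z.2} =
      ∑ i ∈ Finset.range (P.natDegree + 1), P.coeff i * Nat.card {j // p i j} := by
  rw [← Fin.sum_univ_eq_sum_range (fun i => P.coeff i * Nat.card {j // p i j})]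
  simp only [Nat.card_eq_fintype_card, Fintype.card_subtype, Finset.card_filter, Fintype.sum_sigma]
  refine Finset.sum_congr rfl fun i _ => ?_
  calc _ = ∑ _x : Fin (P.coeff ↑i), ∑ j : Fin (N ↑i), (if p (↑i) j then 1 else 0 : ℕ) := rfl
    _ = _ := by rw [Finset.sum_const, Finset.card_univ, Fintype.card_fin, smul_eq_mul]

/-- An indecomposable object which is a retract of a sum is one of the summands. -/
theorem exists_iso_of_genF {H : C} (hH : Indec H) [IsArtinianRing (End H)] {ι : Type w} {Gs : ι → C}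
    (hG : ∀ i, Indec (Gs i)) (h : GenF Gs H) : ∃ i, Nonempty (H ≅ Gs i) := by
  haveI := hH.isLocalRing
  obtain ⟨n, c, f, g, hfg⟩ := h
  obtain ⟨j, -, y, hy⟩ := exists_retract_of_sum Finset.univ (fun j => Gs (c j)) f g hfg
  refine ⟨c j, ⟨⟨f j, y, hy, ?_⟩⟩⟩
  rcases (hG (c j)).idem (y ≫ f j) (by simp [reassoc_of% hy]) with h0 | h1
  · refine absurd ((IsZero.iff_id_eq_zero H).mpr ?_) hH.1
    calc 𝟙 H = (f j ≫ y) ≫ (f j ≫ y) := by rw [hy, Category.comp_id]
      _ = 0 := by rw [Category.assoc, ← Category.assoc y, h0, zero_comp, comp_zero]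
  · exact h1

/-- Two decompositions with the same labels up to multiplicity. -/
theorem nonempty_iso_of_labels {M M' : C} {ι κ : Type} [Fintype ι] [Fintype κ] {σ : Type} [DecidableEq σ]
    {Hs : σ → C} {a : ι → σ} {b : κ → σ} (d : Dec M (fun i => Hs (a i))) (d' : Dec M' (fun i => Hs (b i)))
    (h : ∀ l, Nat.card {i // a i = l} = Nat.card {i // b i = l}) : Nonempty (M ≅ M') := by
  let e : ι ≃ κ := Equiv.ofFiberEquiv fun l => Fintype.equivOfCardEq (by simpa [Nat.card_eq_fintype_card] using h l)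
  have he : ∀ i, b (e i) = a i := fun i => Equiv.ofFiberEquiv_map _ i
  exact ⟨(d.congr (Iso.refl M) fun i => eqToIso (congrArg Hs (he i).symm)).iso ≪≫
    (d'.reindex e).iso.symm⟩

/-- An object generated by finitely many objects has summands in a fixed finite list. -/
theorem exists_labels {ι : Type} [Fintype ι] {Bs : ι → C} (hB : ∀ i, IsArtinianRing (End (Bs i))) :
    ∃ (s : ℕ) (Hs : Fin s → C), (∀ l, Indec (Hs l)) ∧ (∀ l, ∃ i, ∃ (p : Hs l ⟶ Bs i) (q : Bs i ⟶ Hs l), p ≫ q = 𝟙 _) ∧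
      ∀ M : C, IsArtinianRing (End M) → GenF Bs M →
        ∃ (N : ℕ) (c : Fin N → Fin s), Nonempty (Dec M (fun j => Hs (c j))) := by
  classical
  choose n Gs hGs hdG using fun i => haveI := hB i; exists_dec (Bs i)
  let σ := (Fintype.equivFin (Σ i, Fin (n i))).symm
  refine ⟨_, fun l => Gs (σ l).1 (σ l).2, fun l => hGs _ _,
    fun l => ⟨_, _, _, (hdG (σ l).1).some.inj_proj (σ l).2⟩, fun M hM hg => ?_⟩
  haveI := hM
  obtain ⟨N, Fs, hFs, ⟨d⟩⟩ := exists_dec M
  have hall : GenF (fun l => Gs (σ l).1 (σ l).2) M := hg.trans fun i =>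
    (GenF.of_dec (hdG i).some).trans fun j =>
      (GenF.self (fun l => Gs (σ l).1 (σ l).2) (σ.symm ⟨i, j⟩)).ofIso
        (eqToIso (by rw [σ.apply_symm_apply]))
  have hsel : ∀ j, ∃ l, Nonempty (Fs j ≅ Gs (σ l).1 (σ l).2) := fun j => by
    haveI := isArtinianRing_of_retract _ _ (d.inj_proj j)
    exact exists_iso_of_genF (hFs j) (fun l => hGs (σ l).1 (σ l).2) (hall.retract _ _ (d.inj_proj j))
  choose c hc using hsel
  exact ⟨N, c, ⟨d.congr (Iso.refl M) fun j => (hc j).some⟩⟩

/-- Finitely many indecomposables in all powers force a polynomial relation. -/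
theorem weil_of_gen {pw : ℕ → C} (hA : ∀ n, IsArtinianRing (End (pw n))) {ι : Type} [Fintype ι]
    {Bs : ι → C} (hB : ∀ i, IsArtinianRing (End (Bs i))) (h : ∀ n, GenF Bs (pw n)) :
    ∃ P Q : Polynomial ℕ, P ≠ Q ∧ Nonempty (pval pw P ≅ pval pw Q) := by
  classical
  obtain ⟨s, Hs, -, -, hlab⟩ := exists_labels hB
  choose N c hd using fun n => hlab (pw n) (hA n) (h n)
  let v : Fin (s + 1) → Fin s → ℤ := fun n l => (Nat.card {j // c ↑n j = l} : ℤ)
  have hli : ¬ LinearIndependent ℤ v := fun hl => by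
    have := hl.fintype_card_le_finrank
    rw [Module.finrank_fintype_fun_eq_card, Fintype.card_fin, Fintype.card_fin] at this
    omega
  obtain ⟨a, ha, i₀, hi₀⟩ := Fintype.not_linearIndependent_iff.1 hli
  let mk : (Fin (s + 1) → ℕ) → Polynomial ℕ := fun b => ∑ i : Fin (s + 1), Polynomial.monomial (↑i : ℕ) (b i)
  have hcoeff : ∀ b (i : Fin (s + 1)), (mk b).coeff ↑i = b i := fun b i => by
    simp [mk, Polynomial.finsetSum_coeff, Polynomial.coeff_monomial, Fin.val_inj]
  have hdeg : ∀ b, (mk b).natDegree ≤ s := fun b =>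
    Polynomial.natDegree_sum_le_of_forall_le _ _ fun i _ =>
      (Polynomial.natDegree_monomial_le _).trans (Nat.le_of_lt_succ i.isLt)
  refine ⟨mk fun i => (a i).toNat, mk fun i => (-a i).toNat, fun he => hi₀ ?_, ?_⟩
  · have := congrArg (fun P : Polynomial ℕ => P.coeff (↑i₀ : ℕ)) he
    simp only [hcoeff] at this
    omega
  refine nonempty_iso_of_labels (a := fun z : PIdx (mk fun i => (a i).toNat) N => c ↑z.1.1 z.2)
    (b := fun z : PIdx (mk fun i => (-a i).toNat) N => c ↑z.1.1 z.2)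
    (decPval pw (mk fun i => (a i).toNat) fun n => (hd n).some)
    (decPval pw (mk fun i => (-a i).toNat) fun n => (hd n).some) fun l => ?_
  rw [card_filter_pIdx _ fun n j => c n j = l, card_filter_pIdx _ fun n j => c n j = l]
  have hsum : ∀ b : Fin (s + 1) → ℕ, (∑ i ∈ Finset.range ((mk b).natDegree + 1),
      (mk b).coeff i * Nat.card {j // c i j = l}) = ∑ i, b i * Nat.card {j // c ↑i j = l} := by
    intro b
    rw [Finset.sum_subset (Finset.range_mono (Nat.succ_le_succ (hdeg b))) fun i _ hi => by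
      rw [Polynomial.coeff_eq_zero_of_natDegree_lt (by simpa using hi), zero_mul]]
    rw [← Fin.sum_univ_eq_sum_range (fun i => (mk b).coeff i * Nat.card {j // c i j = l})]
    simp only [hcoeff]
  rw [hsum, hsum]
  have hal := congrFun ha l
  simp only [Finset.sum_apply, Pi.smul_apply, Pi.zero_apply, smul_eq_mul, v] at hal
  rw [← @Nat.cast_inj ℤ, Nat.cast_sum, Nat.cast_sum, ← sub_eq_zero, ← Finset.sum_sub_distrib, ← hal]
  refine Finset.sum_congr rfl fun i _ => ?_
  rw [Nat.cast_mul, Nat.cast_mul, ← sub_mul, Int.toNat_sub_toNat_neg]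

open Classical in
/-- The number of summands isomorphic to a given object. -/
theorem card_iso_eq {M : C} [IsArtinianRing (End M)] {ι κ : Type} [Fintype ι] [Fintype κ]
    {Fs : ι → C} {Gs : κ → C} (hF : ∀ i, Indec (Fs i)) (hG : ∀ i, Indec (Gs i))
    (d : Dec M Fs) (d' : Dec M Gs) (H : C) :
    Nat.card {i // Nonempty (Fs i ≅ H)} = Nat.card {i // Nonempty (Gs i ≅ H)} := by
  obtain ⟨e, he⟩ := dec_unique hF hG d d'
  exact Nat.card_congr (e.subtypeEquiv fun i =>
    ⟨fun ⟨f⟩ => ⟨(he i).some.symm ≪≫ f⟩, fun ⟨f⟩ => ⟨(he i).some ≪≫ f⟩⟩)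

/-- A polynomial relation makes some power generated by the earlier ones. -/
theorem gen_of_weil {pw : ℕ → C} (hA : ∀ n, IsArtinianRing (End (pw n))) {P Q : Polynomial ℕ}
    (hPQ : P ≠ Q) (e : pval pw P ≅ pval pw Q) [IsArtinianRing (End (pval pw P))] :
    ∃ d, GenF (fun i : Fin d => pw ↑i) (pw d) := by
  classical
  choose N Fs hFs hd using fun n => exists_dec (pw n)
  let cst : Polynomial ℕ → Polynomial ℤ := Polynomial.map (Nat.castRingHom ℤ)
  let D : Polynomial ℤ := cst P - cst Q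
  have hD : D ≠ 0 := sub_ne_zero.2 fun h =>
    hPQ (Polynomial.map_injective (Nat.castRingHom ℤ) Int.ofNat_injective h)
  refine ⟨D.natDegree, (GenF.of_dec (hd _).some).trans fun j => ?_⟩
  let H := Fs D.natDegree j
  let a : ℕ → ℕ := fun n => Nat.card {l // Nonempty (Fs n l ≅ H)}
  have key := card_iso_eq (fun z : PIdx P N => hFs _ z.2) (fun z : PIdx Q N => hFs _ z.2)
    (decPval pw P fun n => (hd n).some) ((decPval pw Q fun n => (hd n).some).congr e.symm fun _ => Iso.refl _) H
  rw [card_filter_pIdx _ fun n l => Nonempty (Fs n l ≅ H),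
    card_filter_pIdx _ fun n l => Nonempty (Fs n l ≅ H)] at key
  have haD : 0 < a D.natDegree := Nat.card_pos_iff.2 ⟨⟨⟨j, ⟨Iso.refl _⟩⟩⟩, inferInstance⟩
  obtain ⟨i, hi, hai⟩ : ∃ i, i < D.natDegree ∧ 0 < a i := by
    by_contra! hcon
    have hext : ∀ (R : Polynomial ℕ) (M : ℕ), R.natDegree < M →
        ((∑ i ∈ Finset.range (R.natDegree + 1), R.coeff i * a i : ℕ) : ℤ) =
          ∑ i ∈ Finset.range M, (cst R).coeff i * (a i : ℤ) := fun R M hM => by
      rw [Finset.sum_subset (Finset.range_mono hM) fun i _ hi => by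
        rw [Polynomial.coeff_eq_zero_of_natDegree_lt (by simpa using hi), zero_mul]]
      simp [cst, Polynomial.coeff_map]
    let M := P.natDegree + Q.natDegree + D.natDegree + 1
    have h1 : ∑ i ∈ Finset.range M, D.coeff i * (a i : ℤ) = 0 := by
      simp only [D, Polynomial.coeff_sub, sub_mul, Finset.sum_sub_distrib]
      rw [← hext P M (by omega), ← hext Q M (by omega), sub_eq_zero]
      exact congrArg Nat.cast key
    rw [Finset.sum_eq_single D.natDegree (fun i _ hne => by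
        rcases lt_or_gt_of_ne hne with h | h
        · rw [Nat.eq_zero_of_le_zero (hcon i h), Nat.cast_zero, mul_zero]
        · rw [Polynomial.coeff_eq_zero_of_natDegree_lt h, zero_mul])
      (fun h => absurd (Finset.mem_range.2 (by omega)) h)] at h1
    rcases mul_eq_zero.1 h1 with h | h
    · exact Polynomial.leadingCoeff_ne_zero.2 hD h
    · omega
  obtain ⟨l, ⟨f⟩⟩ := (Nat.card_pos_iff.1 hai).1
  exact (GenF.self (fun i : Fin D.natDegree => pw ↑i) ⟨i, hi⟩).retract
    (f.inv ≫ (hd i).some.inj l) ((hd i).some.proj l ≫ f.hom)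
    (by simp [reassoc_of% ((hd i).some.inj_proj l)])

end abelian

end Groth.Agent.WeilFin27
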